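import Cfsg.Agent.Helper3.Cls.Inv
import Cfsg.Agent.Helper3.Cls.Ord3

set_option autoImplicit false

namespace Cfsg.Agent.Helper3

open Cfsg
open scoped Pointwise

/-! ### subgroups of order 3 of `M24` -/

/-- number of fixed points of an element of `M24` -/
def fixCount (x : ↥M24) : ℕ := (Finset.univ.filter fun p => (x : Equiv.Perm GolayPt) p = p).card

theorem fixset_zpowers (x : ↥M24) :
    {p : GolayPt | ∀ y ∈ Subgroup.zpowers x, ((y : ↥M24) : Equiv.Perm GolayPt) p = p} =
      ((Finset.univ.filter fun p => (x : Equiv.Perm GolayPt) p = p : Finset GolayPt) :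
        Set GolayPt) := by
  ext p
  simp only [Set.mem_setOf_eq, Finset.coe_filter, Finset.mem_univ, true_and]
  constructor
  · intro h
    exact h x (Subgroup.mem_zpowers x)
  · intro h y hy
    obtain ⟨n, rfl⟩ := Subgroup.mem_zpowers_iff.1 hy
    rw [Subgroup.coe_zpow]
    exact Equiv.Perm.zpow_apply_eq_self_of_apply_eq_self h n

theorem ncard_fix_zpowers (x : ↥M24) :
    {p : GolayPt | ∀ y ∈ Subgroup.zpowers x, ((y : ↥M24) : Equiv.Perm GolayPt) p = p}.ncard =
      fixCount x := by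
  rw [fixset_zpowers, Set.ncard_coe_finset]
  rfl

noncomputable def o3A : ↥M24 := ⟨gWordPerm o3RA, gWordPerm_mem_M24 _⟩

noncomputable def o3B : ↥M24 := ⟨gWordPerm o3RB, gWordPerm_mem_M24 _⟩

theorem fixCount_o3A : fixCount o3A = 6 := o3RA_card

theorem fixCount_o3B : fixCount o3B = 0 := fpf_card_zero o3RB_fpf

theorem orderOf_o3A : orderOf o3A = 3 := by
  rw [← Subgroup.orderOf_coe]
  exact o3RA_ord

theorem orderOf_o3B : orderOf o3B = 3 := by
  rw [← Subgroup.orderOf_coe]
  exact o3RB_ord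

theorem ord3_sub_class (x : ↥M24) (h : orderOf x = 3) :
    ∃ k : ↥M24, k * x * k⁻¹ = o3A ∨ k * x * k⁻¹ = o3B := by
  have h' : orderOf (x : Equiv.Perm GolayPt) = 3 := by
    rw [Subgroup.orderOf_coe]
    exact h
  obtain ⟨k, hk, h1 | h1⟩ := ord3_class x.1 x.2 (ord3_facts h').1 (ord3_facts h').2
  · exact ⟨⟨k, hk⟩, Or.inl (Subtype.ext h1)⟩
  · exact ⟨⟨k, hk⟩, Or.inr (Subtype.ext h1)⟩

theorem fixCount_conj {k x z : ↥M24} (h : k * x * k⁻¹ = z) : fixCount x = fixCount z := by
  have h1 : (k : Equiv.Perm GolayPt) * x * (k : Equiv.Perm GolayPt)⁻¹ = z := by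
    rw [← h]
    rfl
  exact fix_conj_card h1

/-! ### commuting elements of orders 3 and 2 -/

def p5608 (w : List ℕ) : Bool :=
  !(isInvW w && gFixOK w 0) ||
    sixBW.all (fun w5 => (m24W 6).all (fun w7 =>
      !(commW w (w5 ++ w7)) || !(isOrd3W (w5 ++ w7)) || gWordEq (w5 ++ w7) []))

theorem sweep5608 : sweepAll invW0 p5608 = true := by decide +kernel

theorem no_3A_2B (x s : Equiv.Perm GolayPt) (hx : x ∈ M24) (hs : s ∈ M24) (h3 : orderOf x = 3)
    (h2 : orderOf s = 2) (hc : Commute x s)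
    (hx6 : (Finset.univ.filter fun p => x p = p).card = 6) (hsf : ∀ p, s p ≠ p) : False := by
  have hmem : ∀ a, a ∈ (Finset.univ.filter fun p => x p = p) ↔ x a = a := fun a => by
    simp only [Finset.mem_filter, Finset.mem_univ, true_and]
  have hss : ∀ y, s (s y) = y := fun y => by
    rw [← Equiv.Perm.mul_apply, (ord2_facts h2).1, Equiv.Perm.one_apply]
  have hxs : ∀ a, x (s a) = s (x a) := fun a => by
    have h1 := congrArg (fun f : Equiv.Perm GolayPt => f a) hc.eq
    simpa only [Equiv.Perm.mul_apply] using h1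
  have hsF : ∀ a, x a = a → x (s a) = s a := fun a ha => by rw [hxs, ha]
  obtain ⟨p, hp⟩ : (Finset.univ.filter fun p => x p = p).Nonempty :=
    Finset.card_pos.1 (by rw [hx6]; norm_num)
  rw [hmem] at hp
  obtain ⟨q, hq⟩ : ((Finset.univ.filter fun p => x p = p) \ {p, s p}).Nonempty := by
    apply Finset.card_pos.1
    have h4 := Finset.le_card_sdiff ({p, s p} : Finset GolayPt)
      (Finset.univ.filter fun p => x p = p)
    have h5 : ({p, s p} : Finset GolayPt).card ≤ 2 := Finset.card_le_two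
    omega
  rw [Finset.mem_sdiff, hmem] at hq
  simp only [Finset.mem_insert, Finset.mem_singleton, not_or] at hq
  obtain ⟨hqx, hq1, hq2⟩ := hq
  obtain ⟨r, hr⟩ : ((Finset.univ.filter fun p => x p = p) \ {p, s p, q, s q}).Nonempty := by
    apply Finset.card_pos.1
    have h4 := Finset.le_card_sdiff ({p, s p, q, s q} : Finset GolayPt)
      (Finset.univ.filter fun p => x p = p)
    have h5 : ({p, s p, q, s q} : Finset GolayPt).card ≤ 4 := Finset.card_le_four
    omega
  rw [Finset.mem_sdiff, hmem] at hr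
  simp only [Finset.mem_insert, Finset.mem_singleton, not_or] at hr
  obtain ⟨hrx, hr1, hr2, hr3, hr4⟩ := hr
  have hsq1 : s q ≠ p := fun h => hq2 (by rw [← h, hss])
  have hsq2 : s q ≠ s p := fun h => hq1 (s.injective h)
  have hnd : [p, s p, q, s q, r].Nodup := by
    refine List.nodup_cons.2 ⟨?_, List.nodup_cons.2 ⟨?_, List.nodup_cons.2 ⟨?_,
      List.nodup_cons.2 ⟨?_, List.nodup_singleton _⟩⟩⟩⟩
    · intro hm
      simp only [List.mem_cons, List.not_mem_nil, or_false] at hm
      rcases hm with hm | hm | hm | hm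
      · exact hsf p hm.symm
      · exact hq1 hm.symm
      · exact hsq1 hm.symm
      · exact hr1 hm.symm
    · intro hm
      simp only [List.mem_cons, List.not_mem_nil, or_false] at hm
      rcases hm with hm | hm | hm
      · exact hq2 hm.symm
      · exact hsq2 hm.symm
      · exact hr2 hm.symm
    · intro hm
      simp only [List.mem_cons, List.not_mem_nil, or_false] at hm
      rcases hm with hm | hm
      · exact hsf q hm.symm
      · exact hr3 hm.symm
    · intro hm
      simp only [List.mem_cons, List.not_mem_nil, or_false] at hm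
      exact hr4 hm.symm
  obtain ⟨k, hk, hkl⟩ := M24_trans_list [p, s p, q, s q, r]
    [gPt 0, gPt 1, gPt 2, gPt 3, gPt 4] hnd gF5_nodup rfl (by simp)
  simp only [List.map_cons, List.map_nil, List.cons.injEq, and_true] at hkl
  obtain ⟨e0, e1, e2, e3, e4⟩ := hkl
  have hs' : k * s * k⁻¹ ∈ M24 := M24.mul_mem (M24.mul_mem hk hs) (M24.inv_mem hk)
  have hx' : k * x * k⁻¹ ∈ M24 := M24.mul_mem (M24.mul_mem hk hx) (M24.inv_mem hk)
  obtain ⟨w, hP, hw⟩ := sweep invW0 p5608 sweep5608 (k * s * k⁻¹) hs' (by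
    intro i hi
    rw [invW0_tab i hi]
    interval_cases i
    · show (k * s * k⁻¹) (gPt 0) = gPt 1
      rw [Equiv.Perm.mul_apply, Equiv.Perm.mul_apply, ← e0, perm_inv_apply, e1]
    · show (k * s * k⁻¹) (gPt 1) = gPt 0
      rw [Equiv.Perm.mul_apply, Equiv.Perm.mul_apply, ← e1, perm_inv_apply, hss, e0]
    · show (k * s * k⁻¹) (gPt 2) = gPt 3
      rw [Equiv.Perm.mul_apply, Equiv.Perm.mul_apply, ← e2, perm_inv_apply, e3]
    · show (k * s * k⁻¹) (gPt 3) = gPt 2
      rw [Equiv.Perm.mul_apply, Equiv.Perm.mul_apply, ← e3, perm_inv_apply, hss, e2])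
  have h31 : k * x * k⁻¹ ∈ gSub [] 31 := by
    refine mem_gSub.2 ⟨hx', fun m hm => absurd hm List.not_mem_nil, ?_⟩
    have h1 : PtFix (k * x * k⁻¹) (2 ^ 5 - 1) := by
      apply ptFix_of_prefix
      intro j hj
      interval_cases j
      · rw [Equiv.Perm.mul_apply, Equiv.Perm.mul_apply, ← e0, perm_inv_apply, hp]
      · rw [Equiv.Perm.mul_apply, Equiv.Perm.mul_apply, ← e1, perm_inv_apply, hsF p hp]
      · rw [Equiv.Perm.mul_apply, Equiv.Perm.mul_apply, ← e2, perm_inv_apply, hqx]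
      · rw [Equiv.Perm.mul_apply, Equiv.Perm.mul_apply, ← e3, perm_inv_apply, hsF q hqx]
      · rw [Equiv.Perm.mul_apply, Equiv.Perm.mul_apply, ← e4, perm_inv_apply, hrx]
    exact h1
  obtain ⟨w5, hw5, w7, hw7, he⟩ := enum31 _ h31
  have hsq : gWordPerm w * gWordPerm w = 1 := by
    rw [← hw]
    have e : k * s * k⁻¹ * (k * s * k⁻¹) = k * (s * s) * k⁻¹ := by group
    rw [e, (ord2_facts h2).1, mul_one, mul_inv_cancel]
  have hfpf : gFixOK w 0 = true := by
    apply fixOK_of_fpf
    rw [← hw]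
    exact fpf_conj (k := k⁻¹) (g := k * s * k⁻¹) (r := s) (by group) hsf
  have hcomm : commW w (w5 ++ w7) = true := by
    apply commW_of
    rw [← hw, ← he]
    have e1 : k * s * k⁻¹ * (k * x * k⁻¹) = k * (s * x) * k⁻¹ := by group
    have e2 : k * x * k⁻¹ * (k * s * k⁻¹) = k * (x * s) * k⁻¹ := by group
    rw [e1, e2, hc.eq]
  have hord : isOrd3W (w5 ++ w7) = true := by
    apply isOrd3W_of
    rw [← he]
    have e : k * x * k⁻¹ * (k * x * k⁻¹ * (k * x * k⁻¹)) = k * (x * (x * x)) * k⁻¹ := by group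
    rw [e, (ord3_facts h3).1, mul_one, mul_inv_cancel]
  unfold p5608 at hP
  rw [isInvW_of hsq, hfpf] at hP
  simp only [Bool.and_self, Bool.not_true, Bool.false_or, List.all_eq_true] at hP
  have h5 := hP w5 hw5 w7 hw7
  rw [hcomm, hord] at h5
  simp only [Bool.not_true, Bool.false_or] at h5
  have hx1 : k * x * k⁻¹ = 1 := by rw [he, gWordEq_sound h5, gWordPerm_nil]
  have hx2 : x = 1 := by
    have e : x = k⁻¹ * (k * x * k⁻¹) * k := by group
    rw [e, hx1, mul_one, inv_mul_cancel]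
  exact (ord3_facts h3).2 hx2

end Cfsg.Agent.Helper3
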